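import Cfsg.Agent.H6.R3.H1
import Cfsg.Agent.H6.HS

/-! Recognition of the Higman–Sims group as a rank 3 group. -/

set_option autoImplicit false
set_option maxRecDepth 100000

open MulAction Finset

namespace Cfsg.H7.R3.Q.Hs

open H6 H6.Leech H4.Golay

def sg : List (List ℕ) := [[], [1], [2], [3], [4,2,4], [4,3,4]]

theorem hK : ∀ l, evS HS.ev sg l ∈ Spor.HS := evS_mem fun w hw => HS.mem
  (List.all_eq_true.mp (by decide +kernel : sg.all (fixB HS.img 5 [100, 101]) = true) w hw)

noncomputable def ev : ℕ → Spor.HS := evSub (evS HS.ev sg) Spor.HS hK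

noncomputable def img (x p : ℕ) : ℕ := trF HS.img (sg.getD x []) p

theorem ex : ∃ φ : Spor.HS →* Equiv.Perm ℕ,
    ∀ g : Spor.HS, ∀ p < 100, φ g p < 100 ∧ g.1 (zv p) = zv (φ g p) :=
  exists_lab (fun p _ q _ => HS.lab.inj p (by omega) q (by omega)) fun _ hg _ hp => hs_maps hg hp

noncomputable def φ : Spor.HS →* Equiv.Perm ℕ := ex.choose

theorem sp : ∀ g : Spor.HS, ∀ p < 100, φ g p < 100 ∧ g.1 (zv p) = zv (φ g p) := ex.choose_spec

theorem hφ : IsAct φ ev img 100 6 := isAct_of_lab sp HS.lab (by norm_num) (by decide) hK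

theorem no2 (L : Subgroup Spor.HS) : L.index ≠ 2 := by
  refine no_index_two (ev := ev) (X := [[1], [2], [3], [4], [5]]) (C := [[0], [1], [2], [0, 3], [1, 4]])
    (R := [[2,4,4,2,4,4,2,4,4,2,4,4,2,4,4], [2,2,4,2,2,4,2,2,4,2,2,4,2,2,4], [1,2,2,2,4,2,4,1,2,2,2,4,2,4,1,2,2,2,4,2,4,1,2,2,2,4,2,4,1,2,2,2,4,2,4,1,2,2,2,4,2,4,1,2,2,2,4,2,4], [2,3], [4,5]]) (top_le_iff.1 ?_) (Rels.evSub hK (HS.ora.rels_evS (by decide +kernel)))
    (by decide +kernel) L
  rw [← gen_evSub hK (X := [[1], [2], [2], [4], [3,4,4,4,2], [3,5,3,5,5], [2,5,2,4,3,3], [3,3,5,5,3,3], [3,5,2,2,5,3,3,3], [5,2,2,2,5,2,4,2], [3,3,5,2,4,2,2,5,5], [1,5,1,3,1,3,4,4,2,4,2,5,5]]) (by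
    rw [gen_evS]; exact HS.gen_eq.1)]
  exact gen_le (mem_of_letChk (by decide +kernel))

theorem o0 : lvlChk img 100 6 [] (0, [[1], [2], [4]], unp 99 (nat_lit 0x3b0100003b0000002d0200002d0100004c010000340100003a0100004201000025010000250000001b0100001b000000450200002e0100002e0000002a0200002a0100002a0000002902000029000000440100001c0200001c0100001c000000450100002b0100002b0000003f0200003e0200003e0100003e0000003802000038010000380000003700000036020000360100001702000017010000170000002002000020000000350100002f0200002f0000002c0200002c0100002c0000002302000023010000210200001f0200001f0100001d0200001d01000018020000180100001600000015000000140000000f0000000c0000000d0100000d0000000b0100000e020000080100000800000007020000070100000a0200000a0100000a00000011020000090000001101000011000000130200001001000010000000060200000600000005010000050000000401000004000000030200000301000003000000020200000201000002000000010100001d000000210100002100000030020000300100000000)) = true := by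
  decide +kernel

theorem o1 : lvlChk img 100 6 [0] (1, [[2], [4]], unp 21 (nat_lit 0xd0000000b0000000e0100000800000007010000070000000a0100000a0000001101000011000000130100001000000006010000060000000500000004000000030100000300000002010000020000000100)) = true := by
  decide +kernel

theorem o2 : lvlChk img 100 6 [0] (23, [[2], [4]], unp 76 (nat_lit 0x5b00000056000000550100003601000053000000310000004f01000048010000350100004d0000003e0100002f0100002f0000001f0100001f0000003d0100003d0000003b010000280100003b0000002d0100002d0000004c00000047010000460100002a00000029010000290000002e010000260100002600000024010000340000003a000000420000004101000041000000250000001b0100001b000000450100002b0000003f0100003c0100003c000000370100003700000023010000230000003f0000001a0100001a000000390000003301000032000000330000001c0100001c0000004500000043010000300000001d010000210000001901000019000000430000002c0100002c000000400100004000000038010000380000004a0100004a000000170100001700)) = true := by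
  decide +kernel

theorem oa1 : lvlChk img 100 6 [1,0] (2, [[2,2,5,3,3,3], [4,3]], unp 20 (nat_lit 0x130000000b000000120100000a0100000f00000008000000080100001501000009000000060100000901000005000000050100000f010000070000000c0100000e01000002000000160100000201)) = true := by
  decide +kernel

theorem oa2 : lvlChk img 100 6 [2,1,0] (3, [[2,4,4,2,5,3,3,4,2,5], [5,2]], unp 19 (nat_lit 0x11000000090100000a0100000d00000013010000160100000b000000040000001501000004010000080000000d0100000e010000060000000b0100001201000003000000100100000301)) = true := by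
  decide +kernel

theorem ob : lvlChk img 100 6 [23,0] (1, [[4,2,4,2,5,2,2], [4,3,3,5,2,4]], unp 15 (nat_lit 0x1100000014010000100000000d01000003010000110100000700000013010000070100000f0100000e0000000e0100000c010000150100000100)) = true := by
  decide +kernel

theorem oc : lvlChk img 100 6 [23,0] (24, [[4,2,4,2,5,2,2], [4,3,3,5,2,4]], unp 59 (nat_lit 0x2f000000220100001b0000001b010000230100002f0100004b0000005a0100003b010000560100003e000000470100002901000026010000380000003c010000540100003501000037000000580100004b0100005501000030000000630100002d0000006201000033010000510100002c0000003e0100004f0100004c0100001e000000480100001a0100001e01000019000000430100003f01000021010000270000002400000030010000270100004601000020000000450100001f0000003d01000050010000380100001c0000001c0100002c01000042010000180000001f010000400100001801)) = true := by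
  decide +kernel

def r0 : ℕ := nat_lit 0x7ffffe

noncomputable def R : ℕ → ℕ := nthN [0x7ffffe, 0xa218212110342111c5000001, 0x804288148a860905118800001, 0x94050c80924049290b000001, 0x4084910249882142a84800001, 0x42006884321812a2504800001, 0x121211182404a08c4c1800001, 0x240118914081945841c000001, 0x20a242202a20a421235000001, 0x11240c01180a88f40a2000001, 0x10c120a284420268813800001, 0x801540285150980124a800001, 0x8980c00e015070b0a2000001, 0x2110a14092414046629000001, 0x8028304324291104352000001, 0xc0621250032418886c000001, 0x1408c244404c2a10c70000001, 0x410b020984904c20f80000001, 0x224c040e00e0703f000000001, 0x4470047007007fc0000000001, 0x8780078007ff8000000000001, 0xf80007fff8000000000000001, 0xfffff80000000000000000001, 0x2d28064100214410020000c74, 0xc40c0c054098190000000254a, 0x6602831402806000404005e08, 0x91580448844408040020081b2, 0x52a806022408222008000a88c, 0x4b14050811104082080014584, 0xc241109a0580100010081b300, 0x61c00c808a80046200001c842, 0xa44060e402601000018021252,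 0x349405204040a04802002402e, 0x1e400c9400060298000026910, 0x88e40422092201010020320e0, 0xa2300c1032019005000038418, 0x550031c1040800c0c00041906, 0x9423023104028800050043038, 0x4c8142a041100600804046244, 0xc120c2401b0808003000494c0, 0xc0922120a610010020085028a, 0x8c10915041050100048060720, 0x8a0a420c20340001140082690, 0xa0898202c0c10001210088268, 0x330142881040803040108d014, 0xa106110908a08004208091422, 0x9204a106104a00040408a1188, 0x2a8031822021000a0050b0a04, 0x19828300880600008a10c48a0, 0x890128819013000010a0d0150, 0x90805880680c80000128ea002, 0x4848a04680004302900100bc0, 0x5046402c080028a0800907082, 0x6018504860003402600108606, 0x602520231000506020411104c, 0x2853003880004409009114230, 0x3060905208002054011129820, 0x50118810d0000a4048094c108, 0x4822181128000580184152c00, 0x1830606030000280063160094, 0x300a2805a000002c43018081a, 0x180d100b400000188c2182124, 0x2804c8045800001302c1a4440, 0x61920000451520844020031c, 0x4ca100004a42508810202a22, 0x545800001c24850808205160, 0x3622000062240a4101211890,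 0x62450000128b090044223404, 0x2d0c00003442203001a2c280, 0x512480002148c80428244412, 0x1b1100005018440283258024, 0x4a0a800020b0340034260848, 0x18c600000780022a222800c6, 0x3089800008d0016580288d00, 0x287080000928029084a96008, 0x3e8000000069052e03004a8, 0x69480000001e3111230a050, 0x543800000011ce00ab30102, 0x3f00000000000f5dbc1200, 0x36a05606000a414012a4, 0x62492524a210204040d8, 0x6184984ac1108040e420, 0x5138483414c080410928, 0x4a9243094a8002412016, 0x5442a2c2186020420c82, 0x4c251491252002428144, 0x2d0a6050600511448a10, 0x1b01b0280c000dc75000, 0x28708aa0030914483840, 0x18cc0d4000ac08c84302, 0x301701980006e44c040c, 0x5d10005894548501510, 0x3660003309054d22208, 0x61c8000d40a3a540062, 0xab8000027383d98080, 0x6c8b864610e0900a, 0x3b1550330c610640, 0x51e0b809c2e42180, 0x67801d07b6a0030, 0x66faca5704804]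

theorem rows : allR (fun u => rowChk img 100 6 r0 (nthW [[], [1,3,5,1], [3,1,3,5,1], [3,3,1,3,5,1], [2,2,1,2,4,1], [5,3,3,1,3,5,1], [5,3,1,3,5,1], [4,4,1,4,1,2,2,4,1], [4,1,4,1,2,2,4,1], [1,4,1,2,2,4,1], [5,1,5,1,3,3,5,1], [3,1,2,4,1,4,2,4,1], [1,2,4,1,4,2,4,1], [1,3,5,1,5,3,5,1], [2,4,1,4,1,2,2,4,1], [1,2,1,4,2,4,1], [2,1,2,4,1], [1,5,1,3,3,5,1], [5,1,2,4,1,4,2,4,1], [3,5,3,1,3,5,1], [1,2,4,1], [1,3,1,5,3,5,1], [4,2,1,2,4,1], [1,4,2,4,1], [1,2,1,2,4,1], [4,1], [3,4,2,2,4,1], [5,5,3,3,5,1], [4,2,4,2,4,1], [3,5,1], [3,1,3,1,3,5,1], [4,1,2,2,4,1], [4,1,4,2,4,1], [5,1], [2,5,3,5,1], [1,3,3,1,3,5,1], [2,5,5,3,3,5,1], [3,5,5,3,3,5,1], [3,3,5,3,5,1], [2,1], [5,1,3,1,3,5,1], [4,3,5,5,2,2,4,1], [3,5,5,2,2,4,1], [1,4,4,1,2,2,4,1], [5,2,2,4,1], [3,3,1,5,3,5,1], [3,3,3,5,3,5,1], [3,4,1,2,2,4,1], [1], [1,3,3,5,1], [4,2,4,1], [2,4,2,4,1], [1,5,1,4,2,4,1], [2,4,1,4,2,4,1], [2,4,4,1,4,2,4,1], [5,1,5,3,5,1], [3,3,5,1], [4,2,2,4,1], [3,4,4,2,2,4,1], [4,1,2,1,2,4,1], [4,4,1,4,2,4,1], [4,4,1,2,2,4,1],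 [4,3,5,3,5,1], [1,2,2,1,2,4,1], [2,2,4,1], [5,5,5,3,3,5,1], [4,4,2,2,4,1], [2,4,1], [1,4,2,4,2,4,1], [5,3,3,5,1], [3,3,4,2,2,4,1], [5,5,2,2,4,1], [2,1,2,2,4,1], [3,5,5,5,3,3,5,1], [4,3,3,5,1], [2,5,3,3,5,1], [3,1,5,3,5,1], [3,5,1,5,3,5,1], [5,3,5,1], [3,4,2,4,1], [5,1,4,2,4,1], [4,4,4,2,2,4,1], [1,5,3,5,1], [3,4,4,1,4,2,4,1], [3,5,3,5,1], [1,4,2,1,2,4,1], [2,2,5,3,5,1], [2,2,4,2,4,1], [5,3,3,5,3,5,1], [5,2,4,2,4,1], [1,2,2,4,1], [1,3,1,3,5,1], [5,1,3,3,5,1], [2,2,1,2,2,4,1], [3,1,3,3,5,1], [2,1,4,2,4,1], [1,5,3,1,3,5,1], [3,1], [4,1,3,3,1,3,5,1], [2,1,2,1,2,4,1]] u) u (R u)) 0 100 = true := by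
  decide +kernel

def ch : List (ℕ × ℕ × List ℕ) := [
  (0, 0x7ffffe, [0,1,2,3,4,5,6,7,8,9,10,11,12,13,14,15,16,17,18,19,20,21,22,23,24,25,26,27,28,29,30,31,32,33,34,35,36,37,38,39,40,41,42,43,44,45,46,47,48,49,50,51,52,53,54,55,56,57,58,59,60,61,62,63,64,65,66,67,68,69,70,71,72,73,74,75,76,77,78,79,80,81,82,83,84,85,86,87,88,89,90,91,92,93,94,95,96,97,98,99]),
  (3, 0x94050c80924049290b000001, [1,2,3,4,5,6,7,8,9,10,11,12,13,14,15,16,17,18,19,20,21,22]),
  (57, 0x50118810d0000a4048094c108, [24,25,27,32,35,37,40,43,46,54,57,60,63,71,74,75,80,82,90,92,95]),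
  (69, 0x512480002148c80428244412, [26,28,29,30,33,36,38,39,41,44,48,49,50,51,52,53,55,56,58,59,61,62,65,68,69,70,73,76,77,78,81,85,86,87,89,91,93,94,97,99]),
  (18, 0x224c040e00e0703f000000001, [14,18]),
  (14, 0x8028304324291104352000001, [14]),
  (38, 0x4c8142a041100600804046244, [38,48,87]),
  (24, 0xc40c0c054098190000000254a, [24,63]),
  (8, 0x20a242202a20a421235000001, [8]),
  (20, 0x8780078007ff8000000000001, [15,20]),
  (75, 0x3e8000000069052e03004a8, [60,75]),
  (1, 0xa218212110342111c5000001, [1]),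
  (32, 0x349405204040a04802002402e, [32]),
  (49, 0x890128819013000010a0d0150, [49]),
  (58, 0x4822181128000580184152c00, [58]),
  (44, 0x330142881040803040108d014, [44]),
  (2, 0x804288148a860905118800001, [2])]

theorem kch : chn (2 ^ 100 - 1) 100 ch [] = true := by decide +kernel

theorem pch : (ch.map fun c => c.2.2.length).prod = 2 * 44352000 := by decide +kernel

theorem rch : ∀ c ∈ ch, c.1 < 100 ∧ c.2.1 = R c.1 := by decide +kernel

theorem top : orb φ ⊤ 0 = Set.Ico 0 100 :=
  orb_eq (fun g _ => ⟨Nat.zero_le _, (sp g 0 (by norm_num)).1⟩)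
    ((og hφ (by decide) o0).mono le_top)

noncomputable instance act : MulAction Spor.HS (Fin 100) := actF top

theorem hs (g : Spor.HS) (p : Fin 100) : (g • p).1 = φ g p := rfl

theorem fix0 {g : Spor.HS} (h : g ∈ stabilizer Spor.HS (0 : Fin 100)) : g.1 (zv 0) = zv 0 :=
  (sp g 0 (by norm_num)).2.trans (congrArg zv (congrArg Fin.val h))

theorem dotφ {g : Spor.HS} (h : g ∈ stabilizer Spor.HS (0 : Fin 100)) {p : ℕ} (hp : p < 100) :
    (sm fun k => Leech.ent (Z (φ g p)) k * Leech.ent (Z 0) k) = sm fun k => Leech.ent (Z p) k * Leech.ent (Z 0) k := by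
  have a := sp g p hp
  rw [← dot_zv (by omega) (by norm_num), ← dot_zv (by omega) (by norm_num), ← a.2,
    ← dot_map (hs_iff.1 g.2).1 (zv p), fix0 h]

theorem le0 : ⊤ ⊓ fixS φ [0] ≤ stabilizer Spor.HS (0 : Fin 100) :=
  inf_le_right.trans (stab_eq_fixS hs 0).ge

theorem O1 : orb φ (stabilizer Spor.HS (0 : Fin 100)) 1 = Set.Ico 1 23 :=
  orb_eq (fun g h => (by decide +kernel : ∀ q < 100, (sm fun k => Leech.ent (Z q) k * Leech.ent (Z 0) k) =
      (sm fun k => Leech.ent (Z 1) k * Leech.ent (Z 0) k) → 1 ≤ q ∧ q < 23) _ (sp g 1 (by norm_num)).1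
      (dotφ h (by norm_num))) ((og hφ (by decide) o1).mono le0)

theorem O2 : orb φ (stabilizer Spor.HS (0 : Fin 100)) 23 = Set.Ico 23 100 :=
  orb_eq (fun g h => (by decide +kernel : ∀ q < 100, (sm fun k => Leech.ent (Z q) k * Leech.ent (Z 0) k) =
      (sm fun k => Leech.ent (Z 23) k * Leech.ent (Z 0) k) → 23 ≤ q ∧ q < 100) _ (sp g 23 (by norm_num)).1
      (dotφ h (by norm_num))) ((og hφ (by decide) o2).mono le0)

theorem card0 : Nat.card (stabilizer Spor.HS (0 : Fin 100)) = 443520 := by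
  have := pretrans hs top
  have i := (stabilizer Spor.HS (0 : Fin 100)).index_mul_card
  rw [index_stabilizer_of_transitive, HS.gen_eq.2, Nat.card_fin] at i
  omega

theorem isoM : Nonempty (stabilizer Spor.HS (0 : Fin 100) ≃* Spor.M22) := by
  have k : ∀ g : stabilizer Spor.HS (0 : Fin 100), ∃ π : fixS Cfsg.M24.subtype ([0, 23].map pt),
      ∀ i, g.1.1 (E i) = E (π.1.1 i) := fun g => monomial g.1.2 (fix0 g.2)
  choose f hf using k
  have Einj : ∀ i j, E i = E j → i = j := fun i j e => by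
    by_contra hne
    have := congrFun (congrArg Subtype.val e) i
    simp [E, hne] at this
  let ρ := MonoidHom.mk' f fun a b => Subtype.ext (Subtype.ext (Equiv.ext fun i => Einj _ _ (by
    rw [← hf]
    show a.1.1 (b.1.1 (E i)) = E ((f a).1.1 ((f b).1.1 i))
    rw [hf, hf])))
  have hinj : Function.Injective ρ := fun g h e => Subtype.ext (Subtype.ext (Equiv.ext fun x =>
    Subtype.ext (funext fun j => by
      obtain ⟨i, rfl⟩ := (f g).1.1.surjective j
      rw [coord (hs_iff.mp g.1.2).1 (hf g i), show f g = f h from e,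
        coord (hs_iff.mp h.1.2).1 (hf h i)])))
  obtain ⟨e⟩ := equiv_of_injective ρ hinj (card0 ▸ card_M22_le)
  have p0 : pt 0 = some 0 := by decide
  have p1 : pt 23 = none := by decide
  have h : (fixS Cfsg.M24.subtype ([0, 23].map pt)).map Cfsg.M24.subtype = Spor.M22 := by
    ext g
    refine ⟨?_, fun a => ⟨⟨g, a.1.1⟩, fun b hb => ?_, rfl⟩⟩
    · rintro ⟨x, a, rfl⟩
      exact ⟨⟨x.2, p1 ▸ a (pt 23) (by simp)⟩, p0 ▸ a (pt 0) (by simp)⟩
    · simp only [List.map_cons, List.map_nil, List.mem_cons, List.not_mem_nil, or_false, p0, p1] at hb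
      rcases hb with rfl | rfl
      exacts [a.2, a.1.2]
  exact ⟨e.trans ((Subgroup.equivMapOfInjective _ _ Cfsg.M24.subtype_injective).trans
    (MulEquiv.subgroupCongr h))⟩

theorem bit0 : ∀ v < 100, (bit r0 v = true ↔ 1 ≤ v ∧ v < 23) := by decide +kernel

theorem model : ∃ (adj : Fin 100 → Fin 100 → Prop) (_ : DecidableRel adj)
    (D S : Finset (Fin 100)), (∀ (g : Spor.HS) u v, adj (g • u) (g • v) ↔ adj u v) ∧
    Nat.card (Aut adj) ≤ 2 * 44352000 ∧
    HM (stabilizer Spor.HS (0 : Fin 100)) adj 0 1 23 D S := by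
  have := pretrans hs top
  obtain ⟨adj, dec, D, S, inv, w⟩ := exists_OM (G := Spor.HS) (0 : Fin 100) 1 23 22 77
    (ncard_Ico hs (x := 1) O1 (by norm_num) :) (ncard_Ico hs (x := 23) O2 le_rfl :) (by simp)
    (by norm_num) (by norm_num) (by norm_num) (by simp)
  have hD : ∀ v, v ∈ D ↔ bit r0 v = true := fun v => by
    rw [w.mD, mem_orbit_iff_orb hs, bit0 v v.2]; exact O1 ▸ Iff.rfl
  have hS : ∀ v, v ∈ S ↔ Nat.ble 23 v = true := fun v => by
    rw [w.mS, mem_orbit_iff_orb hs, Nat.ble_eq]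
    exact O2 ▸ ⟨fun a => a.1, fun a => ⟨a, v.2⟩⟩
  have h0 : Row adj 0 r0 := ⟨by norm_num, fun u v e => by
    rw [show u = 0 from Fin.ext e, w.nb, hD]⟩
  have rw' := rows_sound hs hφ inv h0 rows
  have ad : ∀ u v : Fin 100, adj u v ↔ bit (R u) v = true := fun u v => (rw' u u.2).2 u v rfl
  have iD := inv_of_orb w.mD
  have iS := inv_of_orb w.mS
  have as : ∀ t, ∀ g ∈ stabilizer (stabilizer Spor.HS (0 : Fin 100)) t, ∀ v,
      adj t (g • v) ↔ adj t v := fun t g hg v => by rw [← w.inv g t v, mem_stabilizer_iff.1 hg]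
  have i1 : Inv (stabilizer (stabilizer Spor.HS (0 : Fin 100)) (1 : Fin 100)) (D.erase 1) :=
    Inv_erase (fun g _ _ => iD g) le_rfl
  have c1 : (D.erase 1).card = 21 := by rw [card_erase_of_mem ((hD _).2 (by decide +kernel)), w.cD]
  have m2 : 2 ∈ D.erase 1 := mem_erase.2 ⟨by decide, (hD _).2 (by decide +kernel)⟩
  have m3 : 3 ∈ D.erase 1 := mem_erase.2 ⟨by decide, (hD _).2 (by decide +kernel)⟩
  have l1 := orbGe_le hs (o := 0) (p := 1) (x := 2) (og hφ (by decide) oa1)
  have l2 := orbGe_le2 hs (o := 0) (p := 1) (t := 2) (x := 3) (og hφ (by decide) oa2)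
  refine ⟨adj, dec, D, S, inv, pch ▸ aut_le (fun c hc => (rch c hc).2 ▸ rw' _ (rch c hc).1) kch,
    w, card0, (isO_of i1 m2 c1.le l1).1,
    (isO_of (x := (2, 3)) (Inv_offDiag i1) (mem_offDiag.2 ⟨m2, m3, by decide⟩)
      (by rw [offDiag_card, c1]) (by rw [ncard_pair]; exact Nat.mul_le_mul l2 l1)).1,
    (isO_of (x := 1) (fun g hg v hv => mem_filter.2 ⟨iD g (mem_filter.1 hv).1,
      (as 23 g hg v).not.2 (mem_filter.1 hv).2⟩)
      (mem_filter.2 ⟨(hD _).2 (by decide +kernel), (ad _ _).not.2 (by decide +kernel)⟩)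
      ((card_eq_cnt _ (fun v => bit r0 v && !bit (R 23) v) fun v => by
        simp [hD, ad]).le.trans (by decide +kernel))
      (orbGe_le hs (og hφ (by decide) ob))).1,
    (isO_of (x := 24) (fun g hg v hv => mem_filter.2 ⟨iS g (mem_filter.1 hv).1,
      (as 23 g hg v).not.2 (mem_filter.1 hv).2.1, fun e => (mem_filter.1 hv).2.2
        (MulAction.injective g (e.trans hg.symm))⟩)
      (mem_filter.2 ⟨(hS _).2 (by decide), (ad _ _).not.2 (by decide +kernel), by decide⟩)
      ((card_eq_cnt _ (fun v => Nat.ble 23 v && (!bit (R 23) v && !Nat.beq v 23)) fun v => by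
        simp [hS, ad, Fin.ext_iff, ← Bool.not_eq_true]).le.trans (by decide +kernel))
      (orbGe_le hs (og hφ (by decide) oc))).1, fun v hv h => Fin.ext ?_⟩
  refine (by decide +kernel : ∀ v < 100, Nat.ble 23 v = true → (∀ x < 100, bit r0 x = true →
    bit (R 23) x = true → bit (R v) x = true) → v = 23) _ v.2 ((hS v).1 hv) fun x hx a b => ?_
  exact (ad v ⟨x, hx⟩).1 (h _ ((hD _).2 a) ((ad 23 ⟨x, hx⟩).2 b))

theorem s1666 {Ω : Type*} [Fintype Ω] [DecidableEq Ω] (hΩ : Fintype.card Ω = 100)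
    (G : Subgroup (Equiv.Perm Ω)) [IsPretransitive G Ω] (a : Ω) (e : stabilizer G a ≃* Spor.M22)
    (b c : Ω) (hb : (orbit (stabilizer G a) b).ncard = 22)
    (hc : (orbit (stabilizer G a) c).ncard = 77) : Spor.IsoHS G := by
  obtain ⟨adj, _, D, S, inv, hA, m⟩ := model
  obtain ⟨r, _, D', S', inv', w⟩ := exists_OM a b c 22 77 hb hc hΩ (by norm_num) (by norm_num)
    (by norm_num) (by rw [hΩ]; norm_num)
  obtain ⟨e1⟩ := isoM
  let θ := e1.trans e.symm
  let _ := MulAction.compHom Ω θ.toMonoidHom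
  obtain ⟨f, hf⟩ := m.graph (by simpa using hΩ) (w.comp θ)
  have := card_HS.1
  have : FaithfulSMul Spor.HS (Fin 100) := faithful hs (bs := List.range 23)
    (fun b h => by rw [List.mem_range] at h; omega) (eq_bot_iff.2 fun g h => Subtype.ext
      (eq_one g.2 fun p hp => by rw [(sp g p (by omega)).2, h p (List.mem_range.2 hp)]))
  refine iso_of_aut2 no2 adj inv (HS.gen_eq.2 ▸ hA) G r (fun g hg => inv' ⟨g, hg⟩) f hf ?_
  have i := (stabilizer G a).index_mul_card
  rw [index_stabilizer_of_transitive, Nat.card_eq_fintype_card, hΩ,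
    ← Nat.card_congr θ.toEquiv, m.card] at i
  rw [← i, HS.gen_eq.2]

end Cfsg.H7.R3.Q.Hs
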