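import Cfsg.Agent.H6.R3.G2
import Cfsg.Agent.H6.LR.M.Main
import Cfsg.Agent.H6.UBChain
import Cfsg.Agent.H6.More2
import Cfsg.Agent.H2.UDet
import Cfsg.Agent.H3.Small2

/-! The stabiliser of a vertex of the McLaughlin graph is the unitary group `U₄(3)`. -/

set_option autoImplicit false
set_option maxRecDepth 100000
set_option Elab.async false

open MulAction Matrix

namespace Cfsg.H7.R3.Q.Mc

open H6 H6.LR.M

noncomputable instance actM : MulAction Grp (Fin 275) := actF prim.orb_top

theorem hs (g : Grp) (p : Fin 275) : (g • p).1 = φ g p := rfl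

/-- The stabiliser of a vertex. -/
noncomputable abbrev H : Subgroup Grp := stabilizer Grp (0 : Fin 275)

theorem stab0 : H = gen ev Ws := (stab_eq_fixS hs 0).trans prim.stab.symm

theorem cardH : Nat.card H = 3265920 := by
  have := (gen ev Ws).index_mul_card
  rw [prim.index, main.1] at this
  rw [stab0]; omega

noncomputable def φH : H →* Equiv.Perm ℕ := φ.comp H.subtype

theorem hK {σ : List (List ℕ)} (h : σ.all (fixB img 18 [0]) = true) : ∀ l, evS ev σ l ∈ H :=
  evS_mem fun w hw => (stab_eq_fixS hs 0).ge
    (hφ.mem_fixS (by simp) (List.all_eq_true.1 h w hw))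

noncomputable def evH (σ : List (List ℕ)) (h : σ.all (fixB img 18 [0]) = true) : ℕ → H :=
  evSub (evS ev σ) H (hK h)

noncomputable def imH (σ : List (List ℕ)) (x p : ℕ) : ℕ := trF img (σ.getD x []) p

theorem O1 : orb φ H 1 = Set.Ico 1 113 := stab0 ▸ iv0 hφ

theorem fix0 (h : H) : φH h 0 = 0 := congrArg Fin.val h.2

theorem ico (h : H) {p : ℕ} (h1 : 1 ≤ p) (h2 : p < 113) : φH h p ∈ Set.Ico 1 113 := by
  have := orb_step (O1.ge ⟨h1, h2⟩) (inv_mem h.2)
  rw [map_inv, inv_inv, O1] at this
  exact this

theorem lt (h : H) : ∀ p < 113, φH h p < 113 := fun p hp => by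
  rcases Nat.eq_zero_or_pos p with rfl | a
  · rw [fix0]; exact hp
  · exact (ico h a hp).2

theorem ff (h : H) (e : ∀ p < 113, φH h p = p) : h = 1 :=
  Subtype.ext (Subgroup.mem_bot.1 (main.2.1.le fun b hb =>
    e b ((by decide : ∀ b ∈ bs, b < 113) b hb)))

theorem trH {σ : List (List ℕ)} (h : σ.all (fixB img 18 [0]) = true) {x : ℕ} (hx : x < σ.length)
    {p : ℕ} (hp : p < 275) : (φH (evH σ h x))⁻¹ p = imH σ x p := by
  have a : σ.getD x [] ∈ σ := by
    rw [List.getD_eq_getElem _ _ hx]; exact List.getElem_mem _
  have b := List.all_eq_true.1 h _ a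
  unfold fixB at b
  rw [Bool.and_eq_true] at b
  exact (hφ.trF b.1 hp).1

theorem actH {σ : List (List ℕ)} (h : σ.all (fixB img 18 [0]) = true) :
    IsAct φH (evH σ h) (imH σ) 113 σ.length := fun x _ hx p hp => by
  have a := trH h hx (p := p) (by omega)
  exact ⟨a, a ▸ map_inv φH _ ▸ lt _ p hp⟩

def sH : List (List ℕ) := [[], [1], [2], [4,1,3], [4,2,3], [5], [3,7,4,6], [8,3], []]

theorem hsH : sH.all (fixB img 18 [0]) = true := by decide +kernel

def X7 : List (List ℕ) := [[1], [2], [3], [4], [5], [6], [7]]

theorem genH : gen (evH sH hsH) X7 = ⊤ :=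
  gen_evSub _ (by rw [gen_evS, stab0, show X7.map (subst sH) = Ws by decide +kernel])

theorem cenH {c : H} (hc : c ∈ Subgroup.center H) : c = 1 := by
  have k : ∀ (h : H) p, (φH h)⁻¹ (φH c p) = φH c ((φH h)⁻¹ p) := fun h p => by
    rw [← map_inv, ← Equiv.Perm.mul_apply, ← Equiv.Perm.mul_apply, ← map_mul, ← map_mul,
      Subgroup.mem_center_iff.1 hc]
  have u : ([[5,1,5], [3,7,4,6,2]] : List (List ℕ)).all (fixB img 18 [0]) = true := by decide +kernel
  have a := ico c le_rfl (by norm_num)
  have b : ∀ x < 2, imH [[5,1,5], [3,7,4,6,2]] x (φH c 1) = φH c (imH [[5,1,5], [3,7,4,6,2]] x 1) := fun x hx => by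
    rw [← trH u hx (a.2.trans (by norm_num)), ← trH u hx (by norm_num), k]
  have e : φH c 1 = 1 := (by decide +kernel : ∀ p < 113, 1 ≤ p → imH [[5,1,5], [3,7,4,6,2]] 0 p = p →
    imH [[5,1,5], [3,7,4,6,2]] 1 p = p → p = 1) _ a.2 a.1
    ((b 0 (by norm_num)).trans (congrArg _ (by decide +kernel)))
    ((b 1 (by norm_num)).trans (congrArg _ (by decide +kernel)))
  refine ff c fun p hp => ?_
  rcases Nat.eq_zero_or_pos p with rfl | i
  · exact fix0 c
  · obtain ⟨g, hg, rfl⟩ := O1.ge ⟨i, hp⟩
    exact (k ⟨g, hg⟩ 1).symm.trans (congrArg _ e)

/-- The field with nine elements. -/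
abbrev F9 : Type := QuadraticAlgebra (ZMod 3) 2 0

instance factF9 : Fact (∀ r : ZMod 3, r ^ 2 ≠ 2 + 0 * r) := ⟨by decide⟩

instance finF9 : Fintype F9 :=
  Fintype.ofEquiv _ (QuadraticAlgebra.equivProd (2 : ZMod 3) 0).symm

theorem card_F9 : Fintype.card F9 = 3 ^ 2 := by decide

theorem F9_add : ∀ x y : F9, (x + y) ^ 3 = x ^ 3 + y ^ 3 := by decide +kernel

theorem card_SU : Nat.card (SU 4 F9 3) = 4 * 3265920 := by
  have hF := card_F9
  have hb : H2.stabSub (⊥ : Submodule F9 (Fin 4 → F9)) = ⊤ :=
    eq_top_iff.mpr fun g _ => H2.mem_stabSub_of_forall (by simp)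
  have h1 := H2.card_stab_det hF (n := 4) (by norm_num) H2.FormSp.isTS_bot
  rw [hb, inf_top_eq, inf_top_eq, ← H2.range_toLE_su hF, ← Nat.card_congr (H2.guEquiv hF 4).toEquiv,
    H2.card_GU hF, ← Nat.card_congr
      (MonoidHom.ofInjective (H2.toLE_injective (H2.suToMat_injective 4))).toEquiv,
    show H2.uOrd 3 4 = 4 * (4 * 3265920) by decide +kernel] at h1
  exact (Nat.eq_of_mul_eq_mul_left (by norm_num) h1).symm

/-- A field element from its code. -/
def d9 (k : ℕ) : F9 := ⟨(k : ZMod 3), ((k / 3 : ℕ) : ZMod 3)⟩

/-- A matrix from a table. -/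
def m9 (T r c k : ℕ) : Matrix (Fin r) (Fin c) F9 := of fun i j =>
  d9 (Nat.land (Nat.shiftRight T (Nat.mul 4 (Nat.add (Nat.mul (Nat.mul r c) k)
    (Nat.add (Nat.mul c i.1) j.1)))) 15)

def tA : ℕ := nat_lit 0x300003000030000326633212311162113000020000870078100002000002002000300002300001000200200000200001030030000001002000870047570044000000000000000000

def tN : ℕ := nat_lit 0x3101611061016210230126102601161033016310160113103101321008018010320131106201321023011310620161102601231061013110360166106601361022012110120122100701501036013310700107102101661040010810500105101301231004014010210111101601611011012110210122102201121012011110050150101301161080010810110163100501701022013610160126104001041032016210070170100401801033011210310113107001051036012210230161103601111063016610110112102301321026016210130131103201161062011310080150103301211033013610050140106301331080010410120133103101261004017010660163106201261061011610320123108001071008014010660121106601121050010710630111102201631026013110700104101201661080010510005171006101231040010510070140107001081000818100160132100701801063012210500104101301621050010810110136100071510021013310004171000401501000718100004151000501801000515100007141004001071000414100008171000801701000514100008151000081410000418100005181000071710000000000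

def tT : ℕ := nat_lit 0x30033003300330033003300330033003300330033003300330033003300330033003300330033003300330033003300330033003300330033003300330033003300330033003300330033003300330033003300330033003300330033003300330033003300330033003300330033003300330033003300330033003300330033003300330033003300330033003300330033003300330033003300330033003300330033003300330033003300330033003300330033003300330033003300330033003300330033003300330033003300330033003300330033003300330031001201111024711117465837411201156831120021147110211114711203856563883655683386538655638655638566583114765386538741138656583835656388365117483563883835683387411386511023856658365562011568338834711333683563856471111021120117402115665666365388338836583655665201165565683021111741147833856385665545865388338838611205665565384883336114738833438575566637411388387856366110265563735887564685536676588635575868333758848363355486636535633486675664855633363883610018778877887788778877887788778877887788778877887788778877887788778877887788778877887788778877887788778877887788778877887788778877887788778877887788778877887788778877887788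7788778877887788778877887788778877887788778877887788778877887788778877887788778877887788778877887788778877887788778877887788778877887788778877887788778500287788778877887786002877887788778877887788778877820028778700287782002700287785002200287787002600287785002600260027002500220021001022002200220022002200220022002200220022002200220022002200220022002200220022002200220022002200220022002200220022002200220022002200220022002200220022002200220022002200220022002200220022002200220022002200220022002200220022002200220022002200220022002200220022002200220022002200220022002200220022002200220022002200220022002207002022002200220022040020220022002200220022002200220500202208002022050028002022070025002022080024002022070024002400280027002500210012221211166363633626133632212400712221112666311213666212232313132162613165008326204502631054008706366800526233321232626161613132370086333074023617004163233360580121150048007621322630470321666213223613123136612361163221233116340086226623270056162078013622236800431611136213312660750400531263113085061231661362204801331077001202166057050050440012033125007611608806311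0840233201202662012080080120012070070120012005500120012040040120012001200120012001201001100210021002100210021002100210021002100210021002100210021002100210021002100210021002100210021002100210021002100210021002100210021002100210021002100210021002100210021002100210021002100210021002100210021002100210021002100210021002100210021002100210021002100210021002100210021002100210021002100210021002100210021002100210021005100210021002100210041002100210021002100210021002100710021005100210041007100210071008100210081005100210081007100810041004100510010210021002100210021002100210021002100210021002100210021002100210021002100210021002100210021002100210021002100210021002100210021002100210021002100210021002100210021002100210021002100210021002100210021002100210021002100210021002100210021002100210021002100210021002100210021002100210021002100210021002100210021002100210021050040210021002100210800702100210021002100210021002107008021040040210700740080210500870050210400580040210500580088005400750077004100122363611661212338007332122631316632211636621113612663622054040057008047032620580313208402313626121662623085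03336500808707004045061622133161350076131700533122326631132312616800422213161057066360550074050046663121121226333112113628008800561230780162604802212263140071112363363661632132340084004623207507007122231260440166101103666236132233113058033633216077062262111621350050740088003102662078003406116014007602332036005101331016005400560038001800710100100000000000000000000000000000000000000000000000000000000000000000000000000000000000000000000000000000000000000000000000000000000000000000000000000000000000000000000000000000000000000000000000000000000000000000000000000000000000000000000000000000000000000000000000000000000000000000000000000000000000000000000000000000000000000000000000000000000000000000000000000000000000000000000000000000000000000000000000000000000000000000000000000000000000000000000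

def tW : ℕ := nat_lit 0x6101311031013210260123102301131066013610130116106101621005015010620161103201621026011610320131102301261031016110630133103301631022012110120122100401801063016610400104102101331070010510800108101601261007017010210111101301311011012110210122102201121012011110080180101601131050010510110136100801401022016310130123107001071062013210040140100701501066011210610116104001081063012210260131106301111036013310110112102601621023013210160161106201131032011610050180106601211066016310080170103601661050010710120166106101231007014010330136103201231031011310620126105001041005017010330121103301121080010410360111102201361023016110400107101201331050010810008141003101261070010810040170104001051000515100130162100401501036012210800107101601321080010510110163100041810021016610007141000701801000415100007181000801501000818100004171007001041000717100005141000501401000817100005181000051710000715100008151000041410000010001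

theorem hmat : ∀ x < 9, 1 ≤ x → (m9 tA 4 4 x).det = 1 ∧
    (m9 tA 4 4 x)ᵀ * (m9 tA 4 4 x).map (· ^ 3) = 1 := by
  simp only [det_succ_row_zero]; decide +kernel

theorem hl1 : ∀ p < 113, (m9 tT 2 2 (113 * 1 + p)).det ≠ 0 ∧
    m9 tN 2 4 p * m9 tA 4 4 1 = m9 tT 2 2 (113 * 1 + p) * m9 tN 2 4 (imH sH 1 p) := by
  simp only [det_fin_two]; decide +kernel

theorem hl2 : ∀ p < 113, (m9 tT 2 2 (113 * 2 + p)).det ≠ 0 ∧
    m9 tN 2 4 p * m9 tA 4 4 2 = m9 tT 2 2 (113 * 2 + p) * m9 tN 2 4 (imH sH 2 p) := by
  simp only [det_fin_two]; decide +kernel

theorem hl3 : ∀ p < 113, (m9 tT 2 2 (113 * 3 + p)).det ≠ 0 ∧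
    m9 tN 2 4 p * m9 tA 4 4 3 = m9 tT 2 2 (113 * 3 + p) * m9 tN 2 4 (imH sH 3 p) := by
  simp only [det_fin_two]; decide +kernel

theorem hl4 : ∀ p < 113, (m9 tT 2 2 (113 * 4 + p)).det ≠ 0 ∧
    m9 tN 2 4 p * m9 tA 4 4 4 = m9 tT 2 2 (113 * 4 + p) * m9 tN 2 4 (imH sH 4 p) := by
  simp only [det_fin_two]; decide +kernel

theorem hl5 : ∀ p < 113, (m9 tT 2 2 (113 * 5 + p)).det ≠ 0 ∧
    m9 tN 2 4 p * m9 tA 4 4 5 = m9 tT 2 2 (113 * 5 + p) * m9 tN 2 4 (imH sH 5 p) := by
  simp only [det_fin_two]; decide +kernel

theorem hl6 : ∀ p < 113, (m9 tT 2 2 (113 * 6 + p)).det ≠ 0 ∧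
    m9 tN 2 4 p * m9 tA 4 4 6 = m9 tT 2 2 (113 * 6 + p) * m9 tN 2 4 (imH sH 6 p) := by
  simp only [det_fin_two]; decide +kernel

theorem hl7 : ∀ p < 113, (m9 tT 2 2 (113 * 7 + p)).det ≠ 0 ∧
    m9 tN 2 4 p * m9 tA 4 4 7 = m9 tT 2 2 (113 * 7 + p) * m9 tN 2 4 (imH sH 7 p) := by
  simp only [det_fin_two]; decide +kernel

theorem hl8 : ∀ p < 113, (m9 tT 2 2 (113 * 8 + p)).det ≠ 0 ∧
    m9 tN 2 4 p * m9 tA 4 4 8 = m9 tT 2 2 (113 * 8 + p) * m9 tN 2 4 (imH sH 8 p) := by
  simp only [det_fin_two]; decide +kernel

theorem hlab : ∀ x < 9, 1 ≤ x → ∀ p < 113, (m9 tT 2 2 (113 * x + p)).det ≠ 0 ∧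
    m9 tN 2 4 p * m9 tA 4 4 x = m9 tT 2 2 (113 * x + p) * m9 tN 2 4 (imH sH x p) := by
  intro x h1 h2
  interval_cases x
  exacts [hl1, hl2, hl3, hl4, hl5, hl6, hl7, hl8]

theorem hw1 : ∀ p < 113, ∀ i, m9 tN 2 4 p *ᵥ m9 tW 2 4 p i = 0 := by decide +kernel

noncomputable def wc (p : ℕ) : Bool :=
  allR (fun q => Nat.beq p q || !decide (∀ i, m9 tN 2 4 q *ᵥ m9 tW 2 4 p i = 0)) 1 112

theorem wc0 : allR wc 0 15 = true := by decide +kernel

theorem wc1 : allR wc 15 15 = true := by decide +kernel

theorem wc2 : allR wc 30 15 = true := by decide +kernel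

theorem wc3 : allR wc 45 15 = true := by decide +kernel

theorem wc4 : allR wc 60 15 = true := by decide +kernel

theorem wc5 : allR wc 75 15 = true := by decide +kernel

theorem wc6 : allR wc 90 15 = true := by decide +kernel

theorem wc7 : allR wc 105 8 = true := by decide +kernel

theorem hw2 : ∀ p < 113, ∀ q < 113, 1 ≤ q → (∀ i, m9 tN 2 4 q *ᵥ m9 tW 2 4 p i = 0) → p = q := by
  intro p hp q hq h1 h
  have a : wc p = true := by
    rcases (by omega : p < 15 ∨ (15 ≤ p ∧ p < 30) ∨ (30 ≤ p ∧ p < 45) ∨ (45 ≤ p ∧ p < 60) ∨
      (60 ≤ p ∧ p < 75) ∨ (75 ≤ p ∧ p < 90) ∨ (90 ≤ p ∧ p < 105) ∨ 105 ≤ p) with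
      b | b | b | b | b | b | b | b
    exacts [allR_spec wc0 p (by omega) b, allR_spec wc1 p b.1 b.2, allR_spec wc2 p b.1 b.2,
      allR_spec wc3 p b.1 b.2, allR_spec wc4 p b.1 b.2, allR_spec wc5 p b.1 b.2,
      allR_spec wc6 p b.1 b.2, allR_spec wc7 p b hp]
  simpa [h] using allR_spec a q h1 hq

noncomputable def evM (x : ℕ) : SU 4 F9 3 :=
  if h : 1 ≤ x ∧ x < 9 then H3.mkSU F9_add _ (hmat x h.2 h.1).1 (hmat x h.2 h.1).2 else 1

theorem hμ {x : ℕ} (h1 : 1 ≤ x) (h2 : x < 9) : H3.suMat 4 F9 3 (evM x) = m9 tA 4 4 x := by
  unfold evM
  rw [dif_pos ⟨h1, h2⟩]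
  rfl

/-- The lines. -/
def ln (p : ℕ) : Set (Fin 4 → F9) := {v | m9 tN 2 4 p *ᵥ v = 0}

theorem labS : Lab (setAct (actV (H3.suMat 4 F9 3))) evM ln (imH sH) 113 9 := by
  refine ⟨fun x h1 h2 p hp => ⟨Set.ext fun v => ?_, (actH hsH x h1 h2 p hp).2⟩,
    fun p hp q hq e => ?_⟩
  · show m9 tN 2 4 p *ᵥ (H3.suMat 4 F9 3 (evM x) *ᵥ v) = 0 ↔ m9 tN 2 4 (imH sH x p) *ᵥ v = 0
    rw [hμ h1 h2, mulVec_mulVec, (hlab x h2 h1 p hp).2, ← mulVec_mulVec]
    exact ⟨eq_zero_of_mulVec_eq_zero (hlab x h2 h1 p hp).1, fun a => by rw [a, mulVec_zero]⟩
  · rcases Nat.eq_zero_or_pos q with a | a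
    · rcases Nat.eq_zero_or_pos p with b | b
      · omega
      · exact (hw2 q hq p hp b fun i => e.ge (hw1 q hq i)).symm
    · exact hw2 p hp q hq a fun i => e.le (hw1 p hp i)

theorem hz : m9 tA 4 4 8 = scalar (Fin 4) (d9 3) := by decide +kernel

theorem z_cen : evM 8 ∈ Subgroup.center (SU 4 F9 3) := by
  rw [Subgroup.mem_center_iff]
  intro g
  apply H3.suMat_injective
  rw [map_mul, map_mul, hμ (by norm_num) (by norm_num), hz]
  exact (scalar_commute _ (fun _ => Commute.all _ _) _).symm.eq

theorem z_ord : orderOf (evM 8) = 4 := by
  rw [← orderOf_injective _ H3.suMat_injective, hμ (by norm_num) (by norm_num)]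
  exact orderOf_eq_prime_pow (p := 2) (n := 1) (by decide +kernel) (by decide +kernel)

theorem hom {Y : Type*} [Group Y] {ψ : Y →* Equiv.Perm (Set (Fin 4 → F9))} {e : ℕ → Y}
    (lab : Lab ψ e ln (imH sH) 113 9) (hX : gen e ([8] :: X7) = ⊤) :
    ∃ π : Y →* H, Function.Surjective π ∧ Subgroup.zpowers (e 8) ≤ π.ker := by
  obtain ⟨π, a, -⟩ := hom_of_lab lab hX (by decide) (actH hsH) lt ff
  refine ⟨π, MonoidHom.range_eq_top.1 (top_le_iff.1 (genH.ge.trans (gen_le fun w hw =>
    ⟨_, a w ((by decide : ∀ w ∈ X7, inR 9 w = true) w hw)⟩))), Subgroup.zpowers_le.2 ?_⟩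
  rw [MonoidHom.mem_ker, ← evL_singleton e, a _ (by decide), evL_singleton]
  rfl

theorem iso_psu : Nonempty (PSU 4 F9 3 ≃* H) := by
  have : Finite (SU 4 F9 3) := Nat.finite_of_card_ne_zero (by rw [card_SU]; norm_num)
  have hY : ∀ l, evM l ∈ gen evM ([8] :: X7) := fun l => by
    by_cases h : 1 ≤ l ∧ l < 9
    · rw [← evL_singleton evM]
      exact evL_mem_gen _ ((by decide : ∀ l < 9, 1 ≤ l → [l] ∈ [8] :: X7) l h.2 h.1)
    · rw [evM, dif_neg h]; exact one_mem _
  have c : ∀ {Y : Type} [Group Y] (π : Y →* H), Function.Surjective π →
      Nat.card π.ker * 3265920 = Nat.card Y := fun π h => by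
    rw [← π.ker.card_mul_index, Subgroup.index_ker, MonoidHom.range_eq_top.2 h, Subgroup.card_top,
      cardH]
  obtain ⟨π0, a0, b0⟩ := hom (ψ := (setAct (actV (H3.suMat 4 F9 3))).comp (Subgroup.subtype _))
    (e := evSub evM _ hY) ⟨labS.act, labS.inj⟩ (gen_evSub hY rfl)
  have c0 := c π0 a0
  have d0 := Subgroup.card_le_of_le b0
  rw [Nat.card_zpowers, ← Subgroup.orderOf_coe, show (evSub evM _ hY 8).1 = evM 8 from rfl,
    z_ord] at d0
  obtain ⟨π, a, b⟩ := hom labS (Subgroup.eq_top_of_le_card _ (by rw [card_SU]; omega))
  have c1 := c π a
  have e : Subgroup.center (SU 4 F9 3) = π.ker := by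
    refine le_antisymm (fun x hx => cenH (Subgroup.mem_center_iff.2 fun y => ?_)) ?_
    · obtain ⟨y, rfl⟩ := a y
      rw [← map_mul, ← map_mul, Subgroup.mem_center_iff.1 hx]
    · rw [← Subgroup.eq_of_le_of_card_ge b (by rw [Nat.card_zpowers, z_ord, card_SU] at *; omega)]
      exact Subgroup.zpowers_le.2 z_cen
  exact ⟨(QuotientGroup.quotientMulEquivOfEq e).trans
    (QuotientGroup.quotientKerEquivOfSurjective π a)⟩

end Cfsg.H7.R3.Q.Mc
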